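import Groth.Agent.AffLim.Stalks
import Mathlib.RingTheory.Regular.Flat
import Mathlib.RingTheory.Flat.FaithfullyFlat.Algebra

/-!
# The locus where a sequence of functions is weakly regular, and its behaviour in limits
-/

set_option autoImplicit false
set_option backward.isDefEq.respectTransparency false
set_option backward.defeqAttrib.useBackward true
set_option linter.style.haveILetI false

universe u

open CategoryTheory CategoryTheory.Limits AlgebraicGeometry RingTheory.Sequence
open scoped Pointwise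

namespace Groth.Agent.RegLimLib

section Algebra

variable {A B : Type u} [CommRing A] [CommRing B] [Algebra A B]

theorem mem_iff_smul_top (rs : List A) (i : ℕ) (x : A) :
    x ∈ (Ideal.ofList (rs.take i) • ⊤ : Submodule A A) ↔ x ∈ Ideal.ofList (rs.take i) := by
  rw [smul_eq_mul, Ideal.mul_top]

/-- Weak regularity in terms of colon ideals. -/
theorem isWeaklyRegular_iff_forall_mem (rs : List A) : IsWeaklyRegular A rs ↔
    ∀ i (hi : i < rs.length) x, rs[i] * x ∈ Ideal.ofList (rs.take i) → x ∈ Ideal.ofList (rs.take i) := by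
  rw [isWeaklyRegular_iff_Fin]
  refine ⟨fun h i hi x hx => ?_, fun h i => isSMulRegular_iff_right_eq_zero_of_smul.mpr fun z hz => ?_⟩
  · have h0 : (Submodule.Quotient.mk x : A ⧸ (Ideal.ofList (rs.take i) • ⊤ : Submodule A A)) = 0 :=
      (h ⟨i, hi⟩).right_eq_zero_of_smul (by
        rw [← Submodule.Quotient.mk_smul, Submodule.Quotient.mk_eq_zero, mem_iff_smul_top]
        exact hx)
    rwa [Submodule.Quotient.mk_eq_zero, mem_iff_smul_top] at h0
  · obtain ⟨x, rfl⟩ := Submodule.Quotient.mk_surjective _ z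
    rw [← Submodule.Quotient.mk_smul, Submodule.Quotient.mk_eq_zero, mem_iff_smul_top] at hz
    rw [Submodule.Quotient.mk_eq_zero, mem_iff_smul_top]
    exact h i i.2 x hz

/-- Weak regularity descends along faithfully flat maps. -/
theorem isWeaklyRegular_of_faithfullyFlat [Module.FaithfullyFlat A B] {rs : List A}
    (h : IsWeaklyRegular B (rs.map (algebraMap A B))) : IsWeaklyRegular A rs := by
  rw [isWeaklyRegular_iff_forall_mem] at h ⊢
  intro i hi x hx
  have := h i (by rwa [List.length_map]) (algebraMap A B x) (by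
    rw [List.getElem_map, ← map_mul, ← List.map_take, ← Ideal.map_ofList]
    exact Ideal.mem_map_of_mem _ hx)
  rw [← List.map_take, ← Ideal.map_ofList] at this
  rw [← Ideal.comap_map_eq_self_of_faithfullyFlat (B := B) (Ideal.ofList (rs.take i))]
  exact this

theorem isWeaklyRegular_map_of_flat [Module.Flat A B] {rs : List A} (h : IsWeaklyRegular A rs) :
    IsWeaklyRegular B (rs.map (algebraMap A B)) :=
  IsWeaklyRegular.of_flat h

/-- A sequence which is weakly regular at a prime is weakly regular on a basic open around it. -/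
theorem exists_weaklyRegular_away {A : Type u} [CommRing A] [IsNoetherianRing A] (P : Ideal A) [P.IsPrime]
    (S : Type u) [CommRing S] [Algebra A S] [IsLocalization.AtPrime S P] (rs : List A)
    (h : IsWeaklyRegular S (rs.map (algebraMap A S))) :
    ∃ g ∉ P, ∀ (T : Type u) [CommRing T] [Algebra A T] [IsLocalization.Away g T],
      IsWeaklyRegular T (rs.map (algebraMap A T)) := by
  classical
  rw [isWeaklyRegular_iff_Fin] at h
  have key : ∀ i : Fin rs.length, ∃ g ∉ P, ∀ x, rs.get i * x ∈ Ideal.ofList (rs.take i) → g * x ∈ Ideal.ofList (rs.take i) := by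
    intro i
    let J := Ideal.ofList (rs.take i)
    let K : Ideal A := Submodule.comap (rs.get i • (LinearMap.id : A →ₗ[A] A)) J
    obtain ⟨gen, hgen⟩ := IsNoetherian.noetherian K
    have hx : ∀ x ∈ K, ∃ t ∉ P, t * x ∈ J := by
      intro x hx
      have hi := h ⟨i, by rw [List.length_map]; exact i.2⟩
      have h0 : (Submodule.Quotient.mk (algebraMap A S x) :
          S ⧸ (Ideal.ofList ((rs.map (algebraMap A S)).take i) • ⊤ : Submodule S S)) = 0 := by
        refine hi.right_eq_zero_of_smul ?_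
        rw [← Submodule.Quotient.mk_smul, Submodule.Quotient.mk_eq_zero, smul_eq_mul, smul_eq_mul, Ideal.mul_top,
          ← List.map_take, ← Ideal.map_ofList]
        simp only [List.getElem_map, Fin.getElem_fin, ← map_mul]
        exact Ideal.mem_map_of_mem _ hx
      rw [Submodule.Quotient.mk_eq_zero, smul_eq_mul, Ideal.mul_top, ← List.map_take, ← Ideal.map_ofList,
        IsLocalization.algebraMap_mem_map_algebraMap_iff P.primeCompl] at h0
      obtain ⟨t, ht, htx⟩ := h0
      exact ⟨t, ht, htx⟩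
    choose t ht htx using hx
    refine ⟨∏ x ∈ gen.attach, t x.1 (hgen ▸ Submodule.subset_span x.2), fun hm => ?_, fun x hxJ => ?_⟩
    · obtain ⟨y, -, hy⟩ := Ideal.IsPrime.prod_mem_iff.mp hm
      exact ht _ _ hy
    · have hle : K ≤ Submodule.comap ((∏ x ∈ gen.attach, t x.1 (hgen ▸ Submodule.subset_span x.2)) • (LinearMap.id : A →ₗ[A] A)) J := by
        refine hgen.ge.trans (Submodule.span_le.mpr fun y hy => ?_)
        show (∏ x ∈ gen.attach, t x.1 (hgen ▸ Submodule.subset_span x.2)) * y ∈ J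
        rw [← Finset.prod_erase_mul _ _ (Finset.mem_attach gen ⟨y, hy⟩), mul_assoc]
        exact J.mul_mem_left _ (htx _ _)
      exact hle hxJ
  choose g hg hgJ using key
  refine ⟨∏ i, g i, fun hm => ?_, fun T _ _ _ => ?_⟩
  · obtain ⟨i, -, hi⟩ := Ideal.IsPrime.prod_mem_iff.mp hm
    exact hg i hi
  rw [isWeaklyRegular_iff_Fin]
  intro i
  have hi : (i : ℕ) < rs.length := by have h2 := i.2; simpa only [List.length_map] using h2
  refine isSMulRegular_iff_right_eq_zero_of_smul.mpr fun z hz => ?_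
  obtain ⟨z, rfl⟩ := Submodule.Quotient.mk_surjective _ z
  obtain ⟨x, ⟨_, m, rfl⟩, rfl⟩ := IsLocalization.exists_mk'_eq (Submonoid.powers (∏ i, g i)) z
  rw [← Submodule.Quotient.mk_smul, Submodule.Quotient.mk_eq_zero] at hz
  rw [Submodule.Quotient.mk_eq_zero]
  simp only [smul_eq_mul, Ideal.mul_top, ← List.map_take, ← Ideal.map_ofList, List.getElem_map, Fin.getElem_fin,
    IsLocalization.mul_mk'_eq_mk'_of_mul, IsLocalization.mk'_mem_map_algebraMap_iff] at hz ⊢
  obtain ⟨_, ⟨k, rfl⟩, hk⟩ := hz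
  refine ⟨(∏ i, g i) ^ (k + 1), ⟨k + 1, rfl⟩, ?_⟩
  have hx : g ⟨i, hi⟩ * ((∏ i, g i) ^ k * x) ∈ Ideal.ofList (rs.take i) := by
    refine hgJ ⟨i, hi⟩ _ ?_
    rw [mul_left_comm]
    exact hk
  obtain ⟨c, hc⟩ := Finset.dvd_prod_of_mem g (Finset.mem_univ (⟨i, hi⟩ : Fin rs.length))
  have := Ideal.mul_mem_left _ c hx
  rw [← mul_assoc, mul_comm c, ← hc, ← mul_assoc, ← pow_succ'] at this
  exact this


end Algebra

variable {X Y : Scheme.{u}}

/-- The sequence `fs` is weakly regular in the local ring at `x`. -/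
def Reg (fs : List Γ(X, ⊤)) (x : X) : Prop :=
  IsWeaklyRegular (X.presheaf.stalk x) (fs.map (X.presheaf.germ ⊤ x trivial).hom)

/-- Restriction of a sequence of global functions to an open. -/
noncomputable def res (fs : List Γ(X, ⊤)) (U : X.Opens) : List Γ(X, U) :=
  fs.map (fun f => (X.presheaf.map (homOfLE (le_top : U ≤ ⊤)).op).hom f)

theorem map_res_germ (fs : List Γ(X, ⊤)) {U : X.Opens} {x : X} (hx : x ∈ U) :
    (res fs U).map (X.presheaf.germ U x hx).hom = fs.map (X.presheaf.germ ⊤ x trivial).hom := by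
  rw [res, List.map_map]
  refine List.map_congr_left fun f _ => ?_
  exact X.presheaf.germ_res_apply (homOfLE (le_top : U ≤ ⊤)) x hx f

theorem reg_of_affine {fs : List Γ(X, ⊤)} {U : X.affineOpens} (h : IsWeaklyRegular Γ(X, U.1) (res fs U.1))
    {x : X} (hx : x ∈ U.1) : Reg fs x := by
  letI := TopCat.Presheaf.algebra_section_stalk X.presheaf ⟨x, hx⟩
  haveI := U.2.isLocalization_stalk ⟨x, hx⟩
  haveI : Module.Flat Γ(X, U.1) (X.presheaf.stalk x) :=
    IsLocalization.flat _ (U.2.primeIdealOf ⟨x, hx⟩).asIdeal.primeCompl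
  have := isWeaklyRegular_map_of_flat (B := X.presheaf.stalk x) h
  rwa [show (res fs U.1).map (algebraMap Γ(X, U.1) (X.presheaf.stalk x)) = _ from map_res_germ fs hx] at this

theorem affine_of_reg {fs : List Γ(X, ⊤)} {U : X.affineOpens} (h : ∀ x ∈ U.1, Reg fs x) :
    IsWeaklyRegular Γ(X, U.1) (res fs U.1) := by
  rw [isWeaklyRegular_iff_forall_mem]
  intro i hi a ha
  let J := Ideal.ofList ((res fs U.1).take i)
  let Q : Ideal Γ(X, U.1) := Submodule.comap (LinearMap.mulRight Γ(X, U.1) a) J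
  suffices hQ : Q = ⊤ by
    have h1 : (1 : Γ(X, U.1)) ∈ Q := hQ ▸ trivial
    simpa [Q] using h1
  by_contra hne
  obtain ⟨m, hm, hQm⟩ := Ideal.exists_le_maximal Q hne
  let p : PrimeSpectrum Γ(X, U.1) := ⟨m, hm.isPrime⟩
  let x : X := U.2.fromSpec p
  have hx : x ∈ U.1 := U.2.opensRange_fromSpec.le ⟨p, rfl⟩
  have hp : U.2.primeIdealOf ⟨x, hx⟩ = p := U.2.fromSpec.isOpenEmbedding.injective (U.2.fromSpec_primeIdealOf _)
  letI := TopCat.Presheaf.algebra_section_stalk X.presheaf ⟨x, hx⟩
  haveI := U.2.isLocalization_stalk ⟨x, hx⟩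
  have hreg : IsWeaklyRegular (X.presheaf.stalk x)
      ((res fs U.1).map (algebraMap Γ(X, U.1) (X.presheaf.stalk x))) := by
    rw [show (res fs U.1).map (algebraMap Γ(X, U.1) (X.presheaf.stalk x)) = _ from map_res_germ fs hx]
    exact h x hx
  rw [isWeaklyRegular_iff_forall_mem] at hreg
  have h0 := hreg i (by rwa [List.length_map]) (algebraMap _ _ a) (by
    rw [List.getElem_map, ← map_mul, ← List.map_take, ← Ideal.map_ofList]
    exact Ideal.mem_map_of_mem _ ha)
  rw [← List.map_take, ← Ideal.map_ofList,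
    IsLocalization.algebraMap_mem_map_algebraMap_iff (U.2.primeIdealOf ⟨x, hx⟩).asIdeal.primeCompl] at h0
  obtain ⟨t, ht, hta⟩ := h0
  exact ht (by rw [hp]; exact hQm (show t ∈ Q from hta))

theorem affine_iff (fs : List Γ(X, ⊤)) :
    (∀ U : X.affineOpens, IsWeaklyRegular Γ(X, U.1) (res fs U.1)) ↔ ∀ x, Reg fs x := by
  refine ⟨fun h x => ?_, fun h U => affine_of_reg fun x _ => h x⟩
  obtain ⟨_, ⟨W, hW, rfl⟩, hxW, -⟩ := X.isBasis_affineOpens.exists_subset_of_mem_open (Set.mem_univ x) isOpen_univ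
  exact reg_of_affine (U := ⟨W, hW⟩) (h _) hxW

theorem isOpen_reg [IsLocallyNoetherian X] (fs : List Γ(X, ⊤)) : IsOpen {x | Reg fs x} := by
  refine isOpen_iff_forall_mem_open.2 fun x hx => ?_
  obtain ⟨_, ⟨W, hW, rfl⟩, hxW, -⟩ := X.isBasis_affineOpens.exists_subset_of_mem_open (Set.mem_univ x) isOpen_univ
  haveI : IsNoetherianRing Γ(X, W) := IsLocallyNoetherian.component_noetherian ⟨W, hW⟩
  letI := TopCat.Presheaf.algebra_section_stalk X.presheaf ⟨x, hxW⟩
  haveI := hW.isLocalization_stalk ⟨x, hxW⟩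
  have hw : IsWeaklyRegular (X.presheaf.stalk x) ((res fs W).map (algebraMap Γ(X, W) (X.presheaf.stalk x))) := by
    rw [show (res fs W).map (algebraMap Γ(X, W) (X.presheaf.stalk x)) = _ from map_res_germ fs hxW]
    exact hx
  obtain ⟨d, hd, hreg⟩ := exists_weaklyRegular_away (hW.primeIdealOf ⟨x, hxW⟩).asIdeal
    (X.presheaf.stalk x) (res fs W) hw
  let rX := X.presheaf.map (homOfLE (X.basicOpen_le d)).op
  letI : Algebra Γ(X, W) Γ(X, X.basicOpen d) := rX.hom.toAlgebra
  haveI : IsLocalization.Away d Γ(X, X.basicOpen d) :=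
    hW.isLocalization_of_eq_basicOpen d (homOfLE (X.basicOpen_le d)) rfl
  have h2 := hreg Γ(X, X.basicOpen d)
  refine ⟨X.basicOpen d, fun y hy => reg_of_affine (U := ⟨_, hW.basicOpen d⟩) ?_ hy, (X.basicOpen d).2,
    (X.mem_basicOpen d x hxW).2 (IsLocalization.map_units (X.presheaf.stalk x)
      (⟨d, hd⟩ : (hW.primeIdealOf ⟨x, hxW⟩).asIdeal.primeCompl))⟩
  rw [res, List.map_map] at h2
  show IsWeaklyRegular Γ(X, X.basicOpen d) (res fs (X.basicOpen d))
  refine (congrArg (IsWeaklyRegular Γ(X, X.basicOpen d)) (List.map_congr_left fun f _ => ?_)).mpr h2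
  show _ = rX.hom _
  rw [← CategoryTheory.comp_apply, ← X.presheaf.map_comp]
  rfl

/-- Weak regularity at a point is insensitive to flat maps. -/
theorem reg_iff_of_flat (g : Y ⟶ X) [Flat g] (fs : List Γ(X, ⊤)) (y : Y) :
    Reg (fs.map g.appTop.hom) y ↔ Reg fs (g y) := by
  letI : Algebra (X.presheaf.stalk (g y)) (Y.presheaf.stalk y) := (g.stalkMap y).hom.toAlgebra
  haveI : Module.Flat (X.presheaf.stalk (g y)) (Y.presheaf.stalk y) := Flat.stalkMap g y
  haveI : IsLocalHom (algebraMap (X.presheaf.stalk (g y)) (Y.presheaf.stalk y)) :=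
    inferInstanceAs (IsLocalHom (g.stalkMap y).hom)
  haveI : Module.FaithfullyFlat (X.presheaf.stalk (g y)) (Y.presheaf.stalk y) :=
    Module.FaithfullyFlat.of_flat_of_isLocalHom
  have he : (fs.map g.appTop.hom).map (Y.presheaf.germ ⊤ y trivial).hom =
      (fs.map (X.presheaf.germ ⊤ (g y) trivial).hom).map (algebraMap (X.presheaf.stalk (g y)) (Y.presheaf.stalk y)) := by
    rw [List.map_map, List.map_map]
    refine List.map_congr_left fun f _ => ?_
    exact (Scheme.Hom.germ_stalkMap_apply g ⊤ y trivial f).symm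
  rw [Reg, Reg, he]
  exact ⟨isWeaklyRegular_of_faithfullyFlat, isWeaklyRegular_map_of_flat⟩

/-- A closed subset of a stage which the limit avoids is avoided by some stage. -/
theorem exists_avoid {I : Type u} [SmallCategory I] [IsCofiltered I] (D : I ⥤ Scheme.{u}) (c : Cone D)
    (hc : IsLimit c) [∀ {i j : I} (f : i ⟶ j), IsAffineHom (D.map f)] (i₀ : I) [CompactSpace (D.obj i₀)]
    (C : Set ↥(D.obj i₀)) (hC : IsClosed C) (h : ∀ s : c.pt, c.π.app i₀ s ∉ C) :
    ∃ (j : I) (φ : j ⟶ i₀), ∀ y : D.obj j, D.map φ y ∉ C := by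
  by_contra hcon
  push Not at hcon
  obtain ⟨s, hs⟩ := exists_mem_of_isClosed_of_nonempty' D c hc (j := i₀) (fun i φ => D.map φ ⁻¹' C)
    (fun i φ => hC.preimage (D.map φ).continuous) (fun i φ => hcon i φ)
    (fun i φ => haveI := QuasiCompact.compactSpace_of_compactSpace (D.map φ)
      (hC.preimage (D.map φ).continuous).isCompact)
    (fun i i' f φ x (hx : D.map (f ≫ φ) x ∈ C) => by
      show D.map φ (D.map f x) ∈ C
      rwa [Functor.map_comp] at hx)
  refine h s ?_
  have := hs i₀ (𝟙 i₀)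
  simpa using this

/-- Weak regularity generizes. -/
theorem reg_of_specializes {fs : List Γ(X, ⊤)} {x z : X} (h : x ⤳ z) (hz : Reg fs z) : Reg fs x := by
  let σ := X.presheaf.stalkSpecializes h
  letI : Algebra (X.presheaf.stalk z) (X.presheaf.stalk x) := σ.hom.toAlgebra
  obtain ⟨_, ⟨W, hW, rfl⟩, hzW, -⟩ := X.isBasis_affineOpens.exists_subset_of_mem_open (Set.mem_univ z) isOpen_univ
  have hxW : x ∈ W := h.mem_open W.2 hzW
  letI az : Algebra Γ(X, W) (X.presheaf.stalk z) := (X.presheaf.germ W z hzW).hom.toAlgebra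
  letI ax : Algebra Γ(X, W) (X.presheaf.stalk x) := (X.presheaf.germ W x hxW).hom.toAlgebra
  haveI : IsLocalization.AtPrime (X.presheaf.stalk z) (hW.primeIdealOf ⟨z, hzW⟩).asIdeal := hW.isLocalization_stalk ⟨z, hzW⟩
  haveI : IsLocalization.AtPrime (X.presheaf.stalk x) (hW.primeIdealOf ⟨x, hxW⟩).asIdeal := hW.isLocalization_stalk ⟨x, hxW⟩
  haveI : IsScalarTower Γ(X, W) (X.presheaf.stalk z) (X.presheaf.stalk x) :=
    .of_algebraMap_eq fun f => (X.presheaf.germ_stalkSpecializes_apply hzW h f).symm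
  have hle : (hW.primeIdealOf ⟨z, hzW⟩).asIdeal.primeCompl ≤ (hW.primeIdealOf ⟨x, hxW⟩).asIdeal.primeCompl := by
    intro f hf hfx
    have h1 : hW.primeIdealOf ⟨x, hxW⟩ ⤳ hW.primeIdealOf ⟨z, hzW⟩ :=
      hW.fromSpec.isOpenEmbedding.isInducing.specializes_iff.1 (by
        erw [hW.fromSpec_primeIdealOf, hW.fromSpec_primeIdealOf]; exact h)
    exact hf ((PrimeSpectrum.le_iff_specializes _ _).2 h1 hfx)
  haveI := IsLocalization.isLocalization_of_submonoid_le (X.presheaf.stalk z) (X.presheaf.stalk x) _ _ hle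
  haveI : Module.Flat (X.presheaf.stalk z) (X.presheaf.stalk x) := IsLocalization.flat _
    (Submonoid.map (algebraMap Γ(X, W) (X.presheaf.stalk z)) (hW.primeIdealOf ⟨x, hxW⟩).asIdeal.primeCompl)
  have := isWeaklyRegular_map_of_flat (B := X.presheaf.stalk x) hz
  rw [List.map_map] at this
  refine (congrArg (IsWeaklyRegular (X.presheaf.stalk x)) (List.map_congr_left fun f _ => ?_)).mpr this
  exact (X.presheaf.germ_stalkSpecializes_apply (U := ⊤) trivial h f).symm

end Groth.Agent.RegLimLib
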